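import Groth.Agent.Lib.GrowthBd20.Fibre
import Groth.Agent.Lib.EulerPull.Basic
import Groth.Agent.Lib.EulerConst10.BaseChange
import Groth.Agent.Lib.FGAInt26.AlgEquiv

/-!
# Slices of a product at rational points
-/

set_option autoImplicit false
set_option linter.style.haveILetI false
set_option backward.isDefEq.respectTransparency false
set_option maxHeartbeats 1000000

universe u

open CategoryTheory CategoryTheory.Limits AlgebraicGeometry TopologicalSpace

noncomputable section

namespace GrothLib.SliceFib28

variable {k : Type u} [Field k] {Y S P : Scheme.{u}} {p : S ⟶ Spec (CommRingCat.of k)}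
  {π : Y ⟶ P} {pP : P ⟶ Spec (CommRingCat.of k)}

theorem exists_iso_fromSpecResidueField (t : Spec (CommRingCat.of k) ⟶ P) (ht : t ≫ pP = 𝟙 _) :
    ∃ e : Spec (CommRingCat.of k) ≅ Spec (P.residueField (t (IsLocalRing.closedPoint k))),
      e.hom ≫ P.fromSpecResidueField (t (IsLocalRing.closedPoint k)) = t := by
  obtain ⟨φ, hφ⟩ : ∃ φ : P.residueField (t (IsLocalRing.closedPoint k)) ⟶ CommRingCat.of k,
      Spec.map φ ≫ P.fromSpecResidueField (t (IsLocalRing.closedPoint k)) = t :=
    ⟨_, Scheme.descResidueField_stalkClosedPointTo_fromSpecResidueField k P t⟩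
  have h1 : φ.hom.comp (Spec.preimage (P.fromSpecResidueField (t (IsLocalRing.closedPoint k)) ≫ pP)).hom =
      RingHom.id k := by
    have : Spec.preimage (P.fromSpecResidueField (t (IsLocalRing.closedPoint k)) ≫ pP) ≫ φ = 𝟙 _ := by
      refine Spec.map_injective ?_
      rw [Spec.map_comp, Spec.map_preimage, ← Category.assoc, hφ, ht, Spec.map_id]
    exact congrArg CommRingCat.Hom.hom this
  haveI : IsIso φ := (ConcreteCategory.isIso_iff_bijective φ).2
    ⟨φ.hom.injective, fun c => ⟨_, RingHom.congr_fun h1 c⟩⟩
  exact ⟨asIso (Spec.map φ), hφ⟩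

variable {s : S ⟶ Y} {t : Spec (CommRingCat.of k) ⟶ P}

/-- Restriction to the slice at a rational point keeps exact sequences with flat quotient exact. -/
theorem shortExact_slice (H : IsPullback s p π t) (ht : t ≫ pP = 𝟙 _) {T : ShortComplex Y.Modules}
    (hT : T.ShortExact) (hfl : FlatMod.IsFlatOver π T.X₃) :
    haveI : (Scheme.Modules.pullback s).IsLeftAdjoint :=
      (Scheme.Modules.pullbackPushforwardAdjunction s).isLeftAdjoint
    (T.map (Scheme.Modules.pullback s)).ShortExact := by
  haveI : (Scheme.Modules.pullback s).IsLeftAdjoint :=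
    (Scheme.Modules.pullbackPushforwardAdjunction s).isLeftAdjoint
  set x := t (IsLocalRing.closedPoint k)
  haveI : (Scheme.Modules.pullback (π.fiberι x)).IsLeftAdjoint :=
    (Scheme.Modules.pullbackPushforwardAdjunction (π.fiberι x)).isLeftAdjoint
  obtain ⟨e, he⟩ := exists_iso_fromSpecResidueField (pP := pP) t ht
  have H' : IsPullback (π.fiberι x) (π.fiberToSpecResidueField x) π (P.fromSpecResidueField x) :=
    IsPullback.of_hasPullback π (P.fromSpecResidueField x)
  let a : S ⟶ π.fiber x := H'.lift s (p ≫ e.hom) (by rw [Category.assoc, he, H.w])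
  haveI : IsIso a := by
    refine ⟨H.lift (π.fiberι x) (π.fiberToSpecResidueField x ≫ e.inv) ?_, ?_, ?_⟩
    · rw [H'.w, Category.assoc]
      congr 1
      exact (Iso.eq_inv_comp e).2 he
    · refine H.hom_ext ?_ ?_
      · rw [Category.assoc, H.lift_fst, Category.id_comp, H'.lift_fst]
      · rw [Category.assoc, H.lift_snd, Category.id_comp, ← Category.assoc, H'.lift_snd, Category.assoc,
          e.hom_inv_id, Category.comp_id]
    · refine H'.hom_ext ?_ ?_
      · rw [Category.assoc, H'.lift_fst, Category.id_comp, H.lift_fst]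
      · rw [Category.assoc, H'.lift_snd, Category.id_comp, ← Category.assoc, H.lift_snd, Category.assoc,
          e.inv_hom_id, Category.comp_id]
  haveI : (Scheme.Modules.pullback a).IsLeftAdjoint :=
    (Scheme.Modules.pullbackPushforwardAdjunction a).isLeftAdjoint
  have h1 := EulerPull.shortExact_pullback a (GrowthBd.shortExact_fibre π x hT fun z _ => hfl z)
  exact ShortComplex.shortExact_of_iso
    (T.mapNatIso (Scheme.Modules.pullbackComp a (π.fiberι x) ≪≫ Scheme.Modules.pullbackCongr (H'.lift_fst _ _ _)))
    h1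

/-- The Euler characteristic of a slice of a flat family is constant on a connected base. -/
theorem euler_slice_eq [IsProper p] [IsProper π] [IsLocallyNoetherian P] [LocallyOfFinitePresentation π]
    [PreconnectedSpace P] {s' : S ⟶ Y} {t' : Spec (CommRingCat.of k) ⟶ P} (H : IsPullback s p π t)
    (H' : IsPullback s' p π t') {G : Y.Modules} (hG : CohB1.IsFP G) (hfl : FlatMod.IsFlatOver π G) :
    @Curv2.euler k _ S ⟨p⟩ ((Scheme.Modules.pullback s).obj G) =
      @Curv2.euler k _ S ⟨p⟩ ((Scheme.Modules.pullback s').obj G) := by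
  haveI := SemiPrufer.qcoh_of_isFP hG
  have hloc : IsLocallyConstant (fun y : P => EulerConst10.fibEuler π G y) :=
    IsLocallyConstant.iff_exists_open _ |>.2 fun y => by
      obtain ⟨U, hy, hU⟩ := EulerConst10.exists_nhd_euler_eq π G hG hfl y
      exact ⟨U, U.2, hy, hU⟩
  have key : ∀ (s : S ⟶ Y) (t : Spec (CommRingCat.of k) ⟶ P), IsPullback s p π t →
      EulerConst10.fibEuler π G (t (IsLocalRing.closedPoint k)) =
        @Curv2.euler k _ S ⟨p⟩ ((Scheme.Modules.pullback s).obj G) := by
    intro s t H
    rw [← EulerConst10.fibEuler_baseChange H G (IsLocalRing.closedPoint k)]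
    haveI := FittSheaf.isQuasicoherent_pullback s G
    exact FGAInt26.fibEuler_point p _ _
  rw [← key s t H, hloc.apply_eq_of_preconnectedSpace _ (t' (IsLocalRing.closedPoint k)), key s' t' H']

end GrothLib.SliceFib28
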